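import Mathlib.FieldTheory.Minpoly.IsIntegrallyClosed
import Mathlib.RingTheory.Ideal.GoingUp
import Mathlib.RingTheory.QuasiFinite.Basic
import Mathlib.RingTheory.IntegralClosure.IntegrallyClosed

/-!
# Norms of locally principal ideals in finite extensions of normal domains
-/

set_option autoImplicit false
set_option linter.style.haveILetI false

universe u v

namespace Groth.L11.QFac

variable {R : Type u} {B : Type v} [CommRing R] [IsDomain R] [CommRing B] [IsDomain B] [Algebra R B]
  [Module.Finite R B]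

/-- A locally principal ideal is principal near finitely many primes lying over a given one. -/
theorem exists_local_generator (J : Ideal B)
    (hJ : ∀ Q : Ideal B, Q.IsPrime → ∃ s : B, s ∉ Q ∧ ∃ g ∈ J, ∀ x ∈ J, s * x ∈ Ideal.span {g})
    (P : Ideal R) [P.IsPrime] :
    ∃ b ∈ J, ∃ s : R, s ∉ P ∧ ∀ x ∈ J, algebraMap R B s * x ∈ Ideal.span {b} := by
  classical
  have hfin : (P.primesOver B).Finite := Algebra.QuasiFinite.finite_primesOver P
  let F := hfin.toFinset
  have hF : ∀ Q : F, (Q : Ideal B).IsPrime ∧ (Q : Ideal B).comap (algebraMap R B) = P := fun Q => by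
    obtain ⟨h1, h2⟩ := hfin.mem_toFinset.1 Q.2
    exact ⟨h1, h2.over.symm⟩
  have he : ∀ Q : F, ∃ e : B, e ∉ (Q : Ideal B) ∧ ∀ Q' : F, Q' ≠ Q → e ∈ (Q' : Ideal B) := by
    intro Q
    have hne : ∀ Q' : F, Q' ≠ Q → ¬ (Q' : Ideal B) ≤ (Q : Ideal B) := fun Q' hne hle => by
      haveI := (hF Q).1
      haveI := (hF Q').1
      rcases hle.lt_or_eq with hlt | heq
      · exact (Ideal.IsIntegral.comap_lt_comap (R := R) hlt).ne ((hF Q').2.trans (hF Q).2.symm)
      · exact hne (Subtype.ext heq)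
    choose e he₁ he₂ using fun (Q' : {Q' : F // Q' ≠ Q}) => SetLike.not_le_iff_exists.1 (hne Q'.1 Q'.2)
    refine ⟨∏ Q', e Q', fun h => ?_, fun Q' hQ' => ?_⟩
    · haveI := (hF Q).1
      obtain ⟨Q', -, hQ'⟩ := (Ideal.IsPrime.prod_mem_iff).1 h
      exact he₂ Q' hQ'
    · exact Ideal.mem_of_dvd _ (Finset.dvd_prod_of_mem e (Finset.mem_univ ⟨Q', hQ'⟩)) (he₁ ⟨Q', hQ'⟩)
  choose e he₁ he₂ using he
  choose t ht g hg hgen using fun Q : F => hJ Q (hF Q).1
  refine ⟨∑ Q, e Q * g Q, Ideal.sum_mem _ fun Q _ => Ideal.mul_mem_left _ _ (hg Q), ?_⟩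
  set b := ∑ Q, e Q * g Q with hb
  let C : Ideal B := (Ideal.span {b}).colon (J : Set B)
  have hC : ∀ Q : F, ¬ C ≤ (Q : Ideal B) := fun Q hle => by
    haveI := (hF Q).1
    choose c hc using fun Q' : F => Ideal.mem_span_singleton'.1 (hgen Q (g Q') (hg Q'))
    let w := ∑ Q', if Q' = Q then t Q * e Q else e Q' * c Q'
    have hw : t Q * b = w * g Q := by
      rw [hb, Finset.mul_sum, Finset.sum_mul]
      refine Finset.sum_congr rfl fun Q' _ => ?_
      split_ifs with h
      · subst h; ring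
      · rw [mul_assoc, hc]; ring
    have hwQ : w ∉ (Q : Ideal B) := fun h => by
      rw [show w = t Q * e Q + ∑ Q' ∈ Finset.univ.erase Q, e Q' * c Q' by
        show (∑ Q', if Q' = Q then t Q * e Q else e Q' * c Q') = _
        rw [← Finset.add_sum_erase _ _ (Finset.mem_univ Q), if_pos rfl]
        exact congrArg _ (Finset.sum_congr rfl fun Q' hQ' => if_neg (Finset.mem_erase.1 hQ').1)] at h
      refine ((hF Q).1.mul_notMem (ht Q) (he₁ Q)) (((Q : Ideal B).add_mem_iff_left ?_).1 h)
      exact Ideal.sum_mem _ fun Q' hQ' =>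
        Ideal.mul_mem_right _ _ (he₂ Q' Q (Finset.mem_erase.1 hQ').1.symm)
    refine (hF Q).1.mul_notMem hwQ (ht Q) (hle (Submodule.mem_colon.2 fun x hx => ?_))
    obtain ⟨a, ha⟩ := Ideal.mem_span_singleton'.1 (hgen Q x hx)
    refine Ideal.mem_span_singleton'.2 ⟨a * t Q, ?_⟩
    rw [smul_eq_mul, mul_assoc a, hw, mul_assoc, ← ha]
    ring
  have hCP : ¬ C.comap (algebraMap R B) ≤ P := fun h => by
    obtain ⟨Q, hCQ, hQp, hQ⟩ := Ideal.exists_ideal_over_prime_of_isIntegral P C h
    exact hC ⟨Q, hfin.mem_toFinset.2 ⟨hQp, ⟨hQ.symm⟩⟩⟩ hCQ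
  obtain ⟨s, hs, hsP⟩ := SetLike.not_le_iff_exists.1 hCP
  exact ⟨s, hsP, fun x hx => by simpa using Submodule.mem_colon.1 hs x hx⟩

/-- The constant term of the minimal polynomial has the norm's zero set. -/
theorem coeff_zero_mem_iff [IsIntegrallyClosed R] (hinj : Function.Injective (algebraMap R B)) (b : B)
    (P : Ideal R) [P.IsPrime] :
    (minpoly R b).coeff 0 ∈ P ↔ ∃ Q : Ideal B, Q.IsPrime ∧ Q.comap (algebraMap R B) = P ∧ b ∈ Q := by
  haveI : Module.IsTorsionFree R B := Module.isTorsionFree_iff_algebraMap_injective.2 hinj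
  have hbi : IsIntegral R b := IsIntegral.of_finite R b
  constructor
  · intro ha
    have hle : (Ideal.span {b}).comap (algebraMap R B) ≤ P := by
      intro x hx
      obtain ⟨c, hc⟩ := Ideal.mem_span_singleton'.1 (Ideal.mem_comap.1 hx)
      -- `x` is divisible by `b`, so its norm-like constant is
      by_cases hx0 : x = 0
      · subst hx0; exact P.zero_mem
      have hci : IsIntegral R c := IsIntegral.of_finite R c
      -- `q(T) = T^m q_c(x/T)` kills `b`
      let q : Polynomial R := ∑ i ∈ Finset.range ((minpoly R c).natDegree + 1),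
        Polynomial.C ((minpoly R c).coeff i * x ^ i) * Polynomial.X ^ ((minpoly R c).natDegree - i)
      have hq : Polynomial.aeval b q = 0 := by
        simp only [q, map_sum, map_mul, Polynomial.aeval_C, map_pow, Polynomial.aeval_X]
        have h0 := minpoly.aeval R c
        rw [Polynomial.aeval_eq_sum_range] at h0
        calc _ = ∑ i ∈ Finset.range ((minpoly R c).natDegree + 1),
              b ^ (minpoly R c).natDegree * ((minpoly R c).coeff i • c ^ i) := by
                refine Finset.sum_congr rfl fun i hi => ?_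
                rw [← hc, mul_pow, Algebra.smul_def]
                have := Nat.add_sub_cancel' (Nat.lt_succ_iff.1 (Finset.mem_range.1 hi))
                conv_rhs => rw [← this, pow_add]
                ring
          _ = 0 := by rw [← Finset.mul_sum, h0, mul_zero]
      have hdvd := minpoly.isIntegrallyClosed_dvd hbi hq
      have hq0 : q.coeff 0 ∈ P := by
        obtain ⟨r, hr⟩ := hdvd
        rw [hr, Polynomial.mul_coeff_zero]
        exact P.mul_mem_right _ ha
      have hq0' : q.coeff 0 = x ^ (minpoly R c).natDegree := by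
        simp only [q, Polynomial.finsetSum_coeff, Polynomial.coeff_C_mul, Polynomial.coeff_X_pow]
        rw [Finset.sum_eq_single (minpoly R c).natDegree]
        · simp [(minpoly.monic hci).coeff_natDegree]
        · intro i hi hne
          rw [if_neg (by have := Finset.mem_range.1 hi; omega), mul_zero]
        · intro h; exact absurd (Finset.mem_range.2 (Nat.lt_succ_self _)) h
      exact ‹P.IsPrime›.mem_of_pow_mem _ (hq0' ▸ hq0)
    obtain ⟨Q, hQ, hQp, hQP⟩ := Ideal.exists_ideal_over_prime_of_isIntegral P _ hle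
    exact ⟨Q, hQp, hQP, hQ (Ideal.mem_span_singleton_self b)⟩
  · rintro ⟨Q, hQ, rfl, hbQ⟩
    have h := minpoly.aeval R b
    rw [← (minpoly R b).X_mul_divX_add, map_add, map_mul, Polynomial.aeval_X, Polynomial.aeval_C] at h
    refine Ideal.mem_comap.2 ?_
    rw [eq_neg_of_add_eq_zero_right h]
    exact Q.neg_mem (Q.mul_mem_right _ hbQ)

/-- A prime which is the zero set of a locally principal ideal of a finite extension is, locally, that of one element. -/
theorem exists_local_equation [IsIntegrallyClosed R] (hinj : Function.Injective (algebraMap R B)) (J : Ideal B)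
    (hJ : ∀ Q : Ideal B, Q.IsPrime → ∃ s : B, s ∉ Q ∧ ∃ g ∈ J, ∀ x ∈ J, s * x ∈ Ideal.span {g})
    (p : Ideal R) (h₁ : ∀ Q : Ideal B, Q.IsPrime → J ≤ Q → p ≤ Q.comap (algebraMap R B))
    (h₂ : ∃ Q : Ideal B, Q.IsPrime ∧ J ≤ Q ∧ Q.comap (algebraMap R B) = p) (P : Ideal R) [P.IsPrime] :
    ∃ a s : R, s ∉ P ∧ ∀ P' : Ideal R, P'.IsPrime → s ∉ P' → (a ∈ P' ↔ p ≤ P') := by
  obtain ⟨b, hb, s, hs, hgen⟩ := exists_local_generator J hJ P
  refine ⟨(minpoly R b).coeff 0, s, hs, fun P' hP' hsP' => ?_⟩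
  haveI := hP'
  rw [coeff_zero_mem_iff hinj b P']
  constructor
  · rintro ⟨Q, hQ, rfl, hbQ⟩
    refine h₁ Q hQ fun x hx => ?_
    exact (hQ.mem_or_mem ((Ideal.span_singleton_le_iff_mem Q).2 hbQ (hgen x hx))).resolve_left hsP'
  · intro hle
    obtain ⟨Q, hQ, hJQ, rfl⟩ := h₂
    obtain ⟨Q', hQQ', hQ', hP⟩ := Ideal.exists_ideal_over_prime_of_isIntegral P' Q hle
    exact ⟨Q', hQ', hP, hQQ' (hJQ hb)⟩

end Groth.L11.QFac
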