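import Groth.Agent.L11.QFacDesc.Multi
import Groth.Agent.L11.QFacDesc.Alg
import Groth.Agent.L22.Ideal
import Groth.Agent.L22.Cyc.NormDiv
import Groth.Agent.L18.NormalExtend
import Groth.Agent.L12.RadEndo.General
import Groth.Prelude.Def_FGA
import Groth.Prelude.Def_RelProj
import Groth.Agent.S9704

/-!
# Prime divisors below ℚ-Cartier divisors are locally cut out by one equation
-/

set_option autoImplicit false
set_option backward.isDefEq.respectTransparency false
set_option backward.isDefEq.respectTransparency.types false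
set_option linter.style.haveILetI false

universe u

open CategoryTheory CategoryTheory.Limits AlgebraicGeometry TopologicalSpace

noncomputable section

namespace Groth.L11.QFac

/-- The fibres of a restriction. -/
theorem dim_fiber_restrict {X Y : Scheme.{u}} (π : X ⟶ Y) (U : Y.Opens) (s : U) :
    topologicalKrullDim ↥((π ∣_ U).fiber s) = topologicalKrullDim ↥(π.fiber s.1) := by
  have e : ∀ {A B : Scheme.{u}} (g : A ⟶ B) (b : B),
      topologicalKrullDim ↥(g.fiber b) = topologicalKrullDim (g ⁻¹' {b}) := fun g b =>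
    IsHomeomorph.topologicalKrullDim_eq _ (g.fiberHomeo b).isHomeomorph
  rw [e, e]
  refine (Groth.L22.SchemeDim.topologicalKrullDim_eq_of_isEmbedding
    (f := fun w : ((π ∣_ U) ⁻¹' {s} : Set _) => (π ⁻¹ᵁ U).ι w.1)
    ((π ⁻¹ᵁ U).ι.isOpenEmbedding.isEmbedding.comp Topology.IsEmbedding.subtypeVal) ?_).symm
  refine Set.Subset.antisymm ?_ ?_
  · rintro _ ⟨⟨w, hw⟩, rfl⟩
    show π ((π ⁻¹ᵁ U).ι w) ∈ ({s.1} : Set _)
    rw [← Scheme.Hom.comp_apply, ← morphismRestrict_ι, Scheme.Hom.comp_apply, show (π ∣_ U) w = s from hw]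
    rfl
  · intro x hx
    have hxU : x ∈ π ⁻¹ᵁ U := by
      show π x ∈ U
      rw [show π x = s.1 from hx]
      exact s.2
    obtain ⟨w, rfl⟩ : x ∈ Set.range (π ⁻¹ᵁ U).ι := (Scheme.Opens.range_ι _).ge hxU
    refine ⟨⟨w, U.ι.isOpenEmbedding.injective ?_⟩, rfl⟩
    rw [← Scheme.Hom.comp_apply, morphismRestrict_ι, Scheme.Hom.comp_apply]
    exact hx

/-- A multisection through the fibre over a given point. -/
theorem exists_multisection' {X Y : Scheme.{u}} [AlgebraicGeometry.IsIntegral Y] (π : X ⟶ Y)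
    (hπ : RelProj.IsLocallyProjective π) (d : ℕ) (hd : ∀ y : Y, topologicalKrullDim (↥(π.fiber y) : Type u) = d)
    (y : Y) : ∃ x₀ : X, π x₀ = genericPoint Y ∧ (closure {x₀} ∩ π ⁻¹' {y}).Finite := by
  obtain ⟨U, hyU, n, i, hi, hi'⟩ := (Groth.Agent.S9704.result π).1 hπ y
  haveI : Nonempty ↥U := ⟨⟨y, hyU⟩⟩
  haveI : Nonempty ↥(U : Scheme.{u}) := ⟨⟨y, hyU⟩⟩
  haveI : AlgebraicGeometry.IsIntegral (U : Scheme.{u}) := isIntegral_of_isOpenImmersion U.ι
  obtain ⟨x, hx, hfin⟩ := exists_multisection (π ∣_ U) i hi' (d := d)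
    (fun s => (dim_fiber_restrict π U s).trans (hd _)) ⟨y, hyU⟩
  refine ⟨(π ⁻¹ᵁ U).ι x, ?_, (hfin.image (π ⁻¹ᵁ U).ι).subset ?_⟩
  · rw [← Scheme.Hom.comp_apply, ← morphismRestrict_ι, Scheme.Hom.comp_apply, hx]
    exact genericPoint_eq_of_isOpenImmersion U.ι
  · rintro z ⟨hz, hzy⟩
    have hzU : z ∈ π ⁻¹ᵁ U := by
      show π z ∈ U
      rw [show π z = y from hzy]
      exact hyU
    obtain ⟨w, rfl⟩ : z ∈ Set.range (π ⁻¹ᵁ U).ι := (Scheme.Opens.range_ι _).ge hzU
    refine ⟨w, ⟨?_, U.ι.isOpenEmbedding.injective ?_⟩, rfl⟩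
    · rw [(π ⁻¹ᵁ U).ι.isOpenEmbedding.isEmbedding.isInducing.closure_eq_preimage_closure_image, Set.image_singleton]
      exact hz
    · rw [← Scheme.Hom.comp_apply, morphismRestrict_ι, Scheme.Hom.comp_apply]
      exact hzy

/-- A point over a point of codimension one, maximal in its fibre, has codimension one. -/
theorem exists_codim_one_above {X Y : Scheme.{u}} [AlgebraicGeometry.IsIntegral X] [AlgebraicGeometry.IsIntegral Y]
    [IsLocallyNoetherian X] [IsLocallyNoetherian Y] (hYn : Pi1.IsNormalScheme Y) (π : X ⟶ Y) [Surjective π]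
    (x : X) (h1 : ringKrullDim (Y.presheaf.stalk (π x)) = 1) :
    ∃ ξ : X, ξ ⤳ x ∧ π ξ = π x ∧ ringKrullDim (X.presheaf.stalk ξ) = 1 := by
  obtain ⟨η', hη', hmax⟩ := Groth.L22.FibreDim.exists_maximal_specializes (π.asFiber x)
  refine ⟨π.fiberι _ η', ?_, (π.range_fiberι _).le ⟨η', rfl⟩, ?_⟩
  · have := hη'.map (π.fiberι (π x)).continuous
    rwa [π.fiberι_asFiber] at this
  set ξ := π.fiberι (π x) η' with hξdef
  have hξ : π ξ = π x := (π.range_fiberι _).le ⟨η', rfl⟩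
  have hξmax : ∀ z : X, z ⤳ ξ → π z = π ξ → z = ξ := fun z hz hzξ => by
    obtain ⟨w, rfl⟩ : z ∈ Set.range (π.fiberι (π x)) := (π.range_fiberι _).ge (hzξ.trans hξ)
    rw [hmax w ((π.fiberι _).isEmbedding.isInducing.specializes_iff.1 hz)]
  rw [← hξ] at h1
  let A := Y.presheaf.stalk (π ξ)
  let B := X.presheaf.stalk ξ
  haveI : IsDomain A := (hYn _).1
  haveI : Ring.KrullDimLE 1 A := Ring.krullDimLE_iff.2 h1.le
  have hA : IsLocalRing.maximalIdeal A ≠ ⊥ := fun h => by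
    have : IsField A := IsLocalRing.isField_iff_maximalIdeal_eq.2 h
    rw [ringKrullDim_eq_zero_of_isField this] at h1
    exact zero_ne_one h1
  haveI : Ring.DimensionLEOne A := ⟨fun {p} hp hpp => by
    rcases Ring.krullDimLE_one_iff.1 (inferInstance : Ring.KrullDimLE 1 A) p hpp with h | h
    · rw [IsDomain.minimalPrimes_eq_singleton_bot] at h
      exact absurd (Set.mem_singleton_iff.1 h) hp
    · exact h⟩
  obtain ⟨t, htm, ht0⟩ := Submodule.exists_mem_ne_zero_of_ne_bot hA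
  have ht' : (π.stalkMap ξ).hom t ∈ IsLocalRing.maximalIdeal B := fun hu =>
    (IsLocalRing.mem_maximalIdeal t).1 htm (isUnit_of_map_unit _ t hu)
  -- points specialising to `ξ` correspond to primes
  have hpt : ∀ Q : Ideal B, Q.IsPrime → (π.stalkMap ξ).hom t ∈ Q → Q = IsLocalRing.maximalIdeal B := by
    intro Q hQ hQt
    let z := X.fromSpecStalk ξ ⟨Q, hQ⟩
    have hz : z ⤳ ξ := (X.range_fromSpecStalk (x := ξ)).le ⟨_, rfl⟩
    have hπz : π z = Y.fromSpecStalk (π ξ) ⟨Q.comap (π.stalkMap ξ).hom, inferInstance⟩ := by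
      rw [← Scheme.Hom.comp_apply, ← Scheme.SpecMap_stalkMap_fromSpecStalk, Scheme.Hom.comp_apply]
      rfl
    have hmaxQ : Q.comap (π.stalkMap ξ).hom = IsLocalRing.maximalIdeal A :=
      IsLocalRing.eq_maximalIdeal ((inferInstance : (Q.comap (π.stalkMap ξ).hom).IsPrime).isMaximal
        (fun h => ht0 (Ideal.mem_bot.1 (h.le hQt))))
    have := hξmax z hz (by
      rw [hπz]
      exact (congrArg (fun p => Y.fromSpecStalk (π ξ) p) (PrimeSpectrum.ext hmaxQ)).trans
        Scheme.fromSpecStalk_closedPoint)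
    exact congrArg PrimeSpectrum.asIdeal ((X.fromSpecStalk ξ).isEmbedding.injective
      (this.trans Scheme.fromSpecStalk_closedPoint.symm))
  have hmin : IsLocalRing.maximalIdeal B ∈ (Ideal.span {(π.stalkMap ξ).hom t}).minimalPrimes :=
    ⟨⟨inferInstance, (Ideal.span_singleton_le_iff_mem _).2 ht'⟩,
      fun Q hQ _ => (hpt Q hQ.1 (hQ.2 (Ideal.mem_span_singleton_self _))).ge⟩
  have hle := Ideal.height_le_one_of_isPrincipal_of_mem_minimalPrimes (Ideal.span {(π.stalkMap ξ).hom t})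
    (IsLocalRing.maximalIdeal B) hmin
  rw [← IsLocalRing.maximalIdeal_height_eq_ringKrullDim]
  refine le_antisymm (WithBot.coe_le_coe.2 hle) (WithBot.coe_le_coe.2 (Order.one_le_iff_pos.2 ?_))
  rw [pos_iff_ne_zero]
  intro h0
  have hmB : IsLocalRing.maximalIdeal B ∈ minimalPrimes B := Ideal.height_eq_zero_iff.1 h0
  rw [IsDomain.minimalPrimes_eq_singleton_bot] at hmB
  rw [Set.mem_singleton_iff.1 hmB, Ideal.mem_bot] at ht'
  have hgen : π (genericPoint X) = genericPoint Y := by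
    refine (((genericPoint_spec X).image π.continuous).eq ?_)
    rw [Set.image_univ, π.surjective.range_eq, closure_univ]
    exact genericPoint_spec Y
  have := hξmax (genericPoint X) ((genericPoint_spec X).specializes (Set.mem_univ _))
  have hxgen : ξ = genericPoint X := by
    have hb : IsLocalRing.maximalIdeal B = ⊥ := Set.mem_singleton_iff.1 hmB
    have hsurj : (X.fromSpecStalk ξ) ⟨⊥, Ideal.isPrime_bot⟩ = ξ :=
      (congrArg _ (PrimeSpectrum.ext hb.symm : (⟨⊥, Ideal.isPrime_bot⟩ : PrimeSpectrum B) = IsLocalRing.closedPoint B)).trans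
        Scheme.fromSpecStalk_closedPoint
    refine ((genericPoint_spec X).eq ?_).symm
    refine Set.eq_univ_of_forall fun z => ?_
    obtain ⟨p, hp⟩ := (X.range_fromSpecStalk (x := ξ)).ge ((genericPoint_spec X).specializes (Set.mem_univ ξ))
    have : p = IsLocalRing.closedPoint B := by
      refine PrimeSpectrum.ext ?_
      rw [show (IsLocalRing.closedPoint B).asIdeal = ⊥ from hb]
      exact bot_unique ((IsLocalRing.le_maximalIdeal p.2.ne_top).trans hb.le)
    rw [this, Scheme.fromSpecStalk_closedPoint] at hp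
    rw [hp]
    exact ((genericPoint_spec X).def ▸ Set.mem_univ z : z ∈ closure {genericPoint X})
  rw [hxgen, hgen] at h1
  exact zero_ne_one ((ringKrullDim_eq_zero_of_isField
    (Field.toIsField Y.functionField : IsField (Y.presheaf.stalk (genericPoint Y)))).symm.trans h1)

/-- The inverse image of an effective Cartier ideal is locally principal on an affine open. -/
theorem exists_local_gen {Z X : Scheme.{u}} (ι : Z ⟶ X) {I : X.IdealSheafData} (hI : FGA.IsEffCartier I)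
    {W : Z.Opens} (hW : IsAffineOpen W) [IsNoetherianRing Γ(Z, W)] (Q : Ideal Γ(Z, W)) (hQ : Q.IsPrime) :
    ∃ s, s ∉ Q ∧ ∃ g ∈ (I.comap ι).ideal ⟨W, hW⟩, ∀ x ∈ (I.comap ι).ideal ⟨W, hW⟩, s * x ∈ Ideal.span {g} := by
  let J : Ideal Γ(Z, W) := (I.comap ι).ideal ⟨W, hW⟩
  let z := hW.fromSpec ⟨Q, hQ⟩
  obtain ⟨UE, hzU, b, -, hb⟩ := hI (ι z)
  obtain ⟨t, ht, hzt⟩ := hW.exists_basicOpen_le (V := ι ⁻¹ᵁ UE.1) ⟨z, hzU⟩ (hW.range_fromSpec.le ⟨_, rfl⟩)
  let T : Z.affineOpens := ⟨Z.basicOpen t, hW.basicOpen t⟩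
  have hT : (I.comap ι).ideal T = Ideal.span {(ι.appLE UE.1 T.1 ht).hom b} := by
    rw [Groth.L22.Ideals.comap_ideal ι I UE T ht, hb, Ideal.map_span, Set.image_singleton]
  letI : Algebra Γ(Z, W) Γ(Z, Z.basicOpen t) := (Z.presheaf.map (homOfLE (Z.basicOpen_le t)).op).hom.toAlgebra
  haveI : IsLocalization.Away t Γ(Z, Z.basicOpen t) := hW.isLocalization_basicOpen t
  have hmap : J.map (algebraMap _ Γ(Z, Z.basicOpen t)) = Ideal.span {(ι.appLE UE.1 T.1 ht).hom b} :=
    ((I.comap ι).map_ideal_basicOpen ⟨_, hW⟩ t).trans hT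
  obtain ⟨⟨⟨g, hg⟩, m⟩, hgm⟩ := (IsLocalization.mem_map_algebraMap_iff (Submonoid.powers t) _).1
    (hmap.ge (Ideal.mem_span_singleton_self _))
  have htQ : t ∉ Q := by
    have := (Set.ext_iff.1 (congrArg SetLike.coe (hW.fromSpec_preimage_basicOpen t)) ⟨Q, hQ⟩).1 hzt
    exact (PrimeSpectrum.mem_basicOpen _ _).1 this
  let C' : Ideal Γ(Z, W) := (Ideal.span {g}).colon (J : Set Γ(Z, W))
  suffices hC : ¬ C' ≤ Q by
    obtain ⟨s, hs, hsQ⟩ := SetLike.not_le_iff_exists.1 hC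
    exact ⟨s, hsQ, g, hg, fun x hx => Submodule.mem_colon.1 hs x hx⟩
  intro hle
  obtain ⟨S, hS⟩ := (IsNoetherian.noetherian J : J.FG)
  have hx : ∀ x ∈ S, ∃ M : ℕ, t ^ M * x ∈ Ideal.span {g} := fun x hx => by
    obtain ⟨c, hc⟩ := Ideal.mem_span_singleton'.1
      (hmap.le (Ideal.mem_map_of_mem _ (show x ∈ J from hS ▸ Ideal.subset_span hx)))
    obtain ⟨⟨c₀, ⟨_, k, rfl⟩⟩, hc₀⟩ := IsLocalization.surj (Submonoid.powers t) c
    obtain ⟨mm, hmm⟩ := m.2
    simp only at hmm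
    rw [← hmm] at hgm
    have heq : algebraMap _ Γ(Z, Z.basicOpen t) (t ^ (k + mm) * x) = algebraMap _ _ (c₀ * g) := by
      simp only at hgm hc₀
      rw [map_mul, map_mul, pow_add, map_mul, ← hgm, ← hc, ← hc₀]
      ring
    obtain ⟨⟨_, l, rfl⟩, hl⟩ := IsLocalization.exists_of_eq (M := Submonoid.powers t) heq
    refine ⟨l + (k + mm), ?_⟩
    rw [pow_add, mul_assoc, hl]
    exact Ideal.mul_mem_left _ _ (Ideal.mul_mem_left _ _ (Ideal.mem_span_singleton_self g))
  choose M hM using hx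
  refine htQ (hQ.mem_of_pow_mem (∑ x : S, M x.1 x.2) (hle (Submodule.mem_colon.2 fun x hx' => ?_)))
  have hsub : J ≤ (Ideal.span {g}).colon {t ^ (∑ x : S, M x.1 x.2)} := by
    rw [← hS]
    refine Submodule.span_le.2 fun x hx => Submodule.mem_colon_singleton.2 ?_
    obtain ⟨c, hc⟩ := Nat.exists_eq_add_of_le
      (Finset.single_le_sum (f := fun x : S => M x.1 x.2) (fun _ _ => Nat.zero_le _) (Finset.mem_univ ⟨x, hx⟩))
    rw [smul_eq_mul, mul_comm, hc, pow_add, mul_comm _ (t ^ c), mul_assoc]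
    exact Ideal.mul_mem_left _ _ (hM x hx)
  have := Submodule.mem_colon_singleton.1 (hsub hx')
  rw [smul_eq_mul, mul_comm] at this
  simpa using this

/-- A closed point set is locally the zero set of one function. -/
theorem exists_equation {X Y : Scheme.{u}} [AlgebraicGeometry.IsIntegral X] [AlgebraicGeometry.IsIntegral Y]
    [IsLocallyNoetherian X] [IsLocallyNoetherian Y] (hYn : Pi1.IsNormalScheme Y) (π : X ⟶ Y) [IsProper π]
    [Surjective π] (hπ : RelProj.IsLocallyProjective π) (d : ℕ)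
    (hd : ∀ y : Y, topologicalKrullDim (↥(π.fiber y) : Type u) = d)
    (hX : ∀ ξ : X, ringKrullDim (X.presheaf.stalk ξ) = 1 →
      ∃ I : X.IdealSheafData, FGA.IsEffCartier I ∧ (I.support : Set X) = closure {ξ})
    {η y : Y} (h1 : ringKrullDim (Y.presheaf.stalk η) = 1) (hy : η ⤳ y) :
    ∃ (W : Y.affineOpens) (a : Γ(Y, W.1)), y ∈ W.1 ∧ ∀ z ∈ W.1, z ∈ Y.basicOpen a ↔ ¬ η ⤳ z := by
  obtain ⟨x₀, hx₀, hfin⟩ := exists_multisection' π hπ d hd y
  let C : Closeds X := ⟨closure {x₀}, isClosed_closure⟩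
  let Z := (Scheme.IdealSheafData.vanishingIdeal C).subscheme
  let ι : Z ⟶ X := (Scheme.IdealSheafData.vanishingIdeal C).subschemeι
  haveI : AlgebraicGeometry.IsIntegral Z :=
    Groth.L12.RadEndo.isIntegral_vanishingIdeal C isIrreducible_singleton.closure
  haveI : IsClosedImmersion ι := inferInstance
  let q : Z ⟶ Y := ι ≫ π
  haveI : IsProper q := inferInstance
  have hrange : Set.range ι = closure {x₀} := by
    rw [show Set.range ι = _ from (Scheme.IdealSheafData.vanishingIdeal C).range_subschemeι]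
    exact Scheme.IdealSheafData.coe_support_vanishingIdeal C
  obtain ⟨z₀, hz₀⟩ : x₀ ∈ Set.range ι := hrange.ge (subset_closure rfl)
  have hsurj : ∀ w : Y, ∃ z, q z = w := fun w => by
    have h : q z₀ = genericPoint Y := by
      show π (ι z₀) = _
      rw [hz₀, hx₀]
    have hsub : ({genericPoint Y} : Set Y) ⊆ Set.range q := Set.singleton_subset_iff.2 ⟨z₀, h⟩
    exact closure_minimal hsub q.isClosedMap.isClosed_range ((genericPoint_spec Y).def.ge (Set.mem_univ w))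
  haveI : IsDominant q := ⟨Dense.mono (fun w _ => hsurj w) dense_univ⟩
  have hqy : (q ⁻¹' {y}).Finite :=
    (hfin.preimage ι.isClosedEmbedding.injective.injOn).subset fun z hz => ⟨hrange.le ⟨z, rfl⟩, hz⟩
  obtain ⟨V, hyV, hV, hqV, hVfin⟩ := Groth.L22.Cyc.exists_isFinite_appLE q y hqy
  haveI : Nonempty V := ⟨⟨y, hyV⟩⟩
  haveI : Nonempty (q ⁻¹ᵁ V) := by
    obtain ⟨z, hz⟩ := hsurj y
    exact ⟨⟨z, show q z ∈ V from hz ▸ hyV⟩⟩
  haveI : IsLocallyNoetherian Z := LocallyOfFiniteType.isLocallyNoetherian ι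
  haveI : IsNoetherianRing Γ(Z, q ⁻¹ᵁ V) := IsLocallyNoetherian.component_noetherian ⟨_, hqV⟩
  haveI : IsIntegrallyClosed Γ(Y, V) := Groth.L18.isIntegrallyClosed_of_isNormalScheme hYn hV
  letI : Algebra Γ(Y, V) Γ(Z, q ⁻¹ᵁ V) := (q.app V).hom.toAlgebra
  haveI : Module.Finite Γ(Y, V) Γ(Z, q ⁻¹ᵁ V) := RingHom.finite_algebraMap.1 hVfin
  haveI : IsSchemeTheoreticallyDominant q := IsSchemeTheoreticallyDominant.of_isDominant q
  have hinj : Function.Injective (algebraMap Γ(Y, V) Γ(Z, q ⁻¹ᵁ V)) := q.app_injective V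
  -- the divisor upstairs
  obtain ⟨zη, hzη⟩ := hsurj η
  obtain ⟨ξ, hξx, hξη, hξ1⟩ := exists_codim_one_above hYn π (ι zη) (by
    rw [show π (ι zη) = η from hzη]; exact h1)
  obtain ⟨I, hI, hIs⟩ := hX ξ hξ1
  have hsupp : ∀ x : X, x ∈ I.support → η ⤳ π x := fun x hx => by
    have h := (specializes_iff_mem_closure.2 (hIs.le hx : x ∈ closure {ξ})).map π.continuous
    rwa [hξη, show π (ι zη) = η from hzη] at h
  let J : Ideal Γ(Z, q ⁻¹ᵁ V) := (I.comap ι).ideal ⟨_, hqV⟩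
  -- primes and points
  let pt : PrimeSpectrum Γ(Z, q ⁻¹ᵁ V) → Z := fun Q => hqV.fromSpec Q
  have hptV : ∀ Q, pt Q ∈ q ⁻¹ᵁ V := fun Q => hqV.range_fromSpec.le ⟨Q, rfl⟩
  have hptq : ∀ Q, q (pt Q) = hV.fromSpec ⟨Q.asIdeal.comap (q.app V).hom, inferInstance⟩ := fun Q => by
    show q (hqV.fromSpec Q) = _
    rw [← Scheme.Hom.comp_apply, ← IsAffineOpen.SpecMap_appLE_fromSpec q hV hqV le_rfl, Scheme.Hom.comp_apply,
      Scheme.Hom.app_eq_appLE]
    rfl
  have hJle : ∀ Q, J ≤ Q.asIdeal ↔ ι (pt Q) ∈ I.support := fun Q => by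
    have h := hqV.fromSpec_preimage_zeroLocus (J : Set Γ(Z, q ⁻¹ᵁ V))
    have h' : pt Q ∈ (I.comap ι).support ↔ ι (pt Q) ∈ I.support := by rw [Scheme.IdealSheafData.support_comap]; rfl
    rw [← h', Scheme.IdealSheafData.mem_support_iff_of_mem (U := ⟨_, hqV⟩) (hptV Q)]
    exact (Set.ext_iff.1 h Q).symm
  let p := (hV.primeIdealOf ⟨η, hy.mem_open V.2 hyV⟩)
  have hp : hV.fromSpec p = η := hV.fromSpec_primeIdealOf _
  obtain ⟨a, s, hs, has⟩ := exists_local_equation hinj J (fun Q hQ => exists_local_gen ι hI hqV Q hQ) p.asIdeal (fun Q hQ hle => by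
      have h1 := hsupp _ ((hJle ⟨Q, hQ⟩).1 hle)
      rw [show π (ι (pt ⟨Q, hQ⟩)) = _ from hptq ⟨Q, hQ⟩, ← hp] at h1
      exact (PrimeSpectrum.le_iff_specializes p _).2 (hV.fromSpec.isOpenEmbedding.isEmbedding.isInducing.specializes_iff.1 h1))
    (by
      have hzV : zη ∈ q ⁻¹ᵁ V := show q zη ∈ V from hzη ▸ hy.mem_open V.2 hyV
      let Q := hqV.primeIdealOf ⟨zη, hzV⟩
      have hQ : pt Q = zη := hqV.fromSpec_primeIdealOf _
      refine ⟨Q.asIdeal, inferInstance, (hJle Q).2 ?_, ?_⟩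
      · rw [hQ]
        exact hIs.ge hξx.mem_closure
      · have := hptq Q
        rw [hQ, hzη, ← hp] at this
        exact congrArg PrimeSpectrum.asIdeal (hV.fromSpec.isOpenEmbedding.injective this).symm)
    (hV.primeIdealOf ⟨y, hyV⟩).asIdeal
  refine ⟨⟨Y.basicOpen s, hV.basicOpen s⟩, Y.presheaf.map (homOfLE (Y.basicOpen_le s)).op a, ?_, fun z hz => ?_⟩
  · have h := (Set.ext_iff.1 (congrArg SetLike.coe (hV.fromSpec_preimage_basicOpen s)) (hV.primeIdealOf ⟨y, hyV⟩)).2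
      ((PrimeSpectrum.mem_basicOpen _ _).2 hs)
    show y ∈ Y.basicOpen s
    have e : hV.fromSpec (hV.primeIdealOf ⟨y, hyV⟩) = y := hV.fromSpec_primeIdealOf ⟨y, hyV⟩
    exact e ▸ h
  · have hzV : z ∈ V := Y.basicOpen_le s hz
    obtain ⟨P, rfl⟩ : z ∈ Set.range hV.fromSpec := hV.range_fromSpec.ge hzV
    have hsP : s ∉ P.asIdeal :=
      (PrimeSpectrum.mem_basicOpen _ _).1 ((Set.ext_iff.1 (congrArg SetLike.coe (hV.fromSpec_preimage_basicOpen s)) P).1 hz)
    rw [Scheme.basicOpen_res, Opens.mem_inf, and_iff_right hz,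
      ← hp, hV.fromSpec.isOpenEmbedding.isEmbedding.isInducing.specializes_iff, ← PrimeSpectrum.le_iff_specializes]
    refine Iff.trans ?_ (not_congr (has P.asIdeal P.2 hsP))
    exact (Set.ext_iff.1 (congrArg SetLike.coe (hV.fromSpec_preimage_basicOpen a)) P).trans (PrimeSpectrum.mem_basicOpen _ _)

end Groth.L11.QFac
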