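import Groth.Agent.L18.AmpleAvoid
import Groth.Agent.L16.ProjSpace.BaseChange
import Groth.Agent.L22.HypCover
import Groth.Agent.L02.Quot.ProjFibre
import Groth.Agent.S10823

/-!
# Forms with integer coefficients cutting a projective scheme down to finitely many points
-/

set_option autoImplicit false
set_option backward.isDefEq.respectTransparency false
set_option backward.isDefEq.respectTransparency.types false
set_option linter.style.haveILetI false

universe u

open CategoryTheory CategoryTheory.Limits AlgebraicGeometry TopologicalSpace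

noncomputable section

namespace Groth.L11.QFac

open Groth.L16
open Groth.L02.Quot (zTo)

variable {n : ℕ}

section Avoid

variable {R : Type u} [CommRing R]

/-- A hypersurface through the complement of an open set and missing finitely many points of it. -/
theorem exists_homogeneous_avoiding (U : (CohB1.ProjSpace n R).Opens) {E : Set (CohB1.ProjSpace n R)}
    (hE : E.Finite) (hEU : E ⊆ U) :
    ∃ (h : MvPolynomial (Fin (n + 1)) R) (d : ℕ), 0 < d ∧ h.IsHomogeneous d ∧
      (∀ x ∈ E, x ∈ Proj.basicOpen (CohB1.polyGrading n R) h) ∧ Proj.basicOpen (CohB1.polyGrading n R) h ≤ U := by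
  classical
  let 𝒜 := CohB1.polyGrading n R
  obtain ⟨Z, V, hzV, hVU, hsep, hEZ⟩ := Groth.L18.Ample.exists_avoiding_nhds E hE U hEU
  have hg : ∀ z : Z, ∃ (g : MvPolynomial (Fin (n + 1)) R) (a : ℕ), 0 < a ∧ g ∈ 𝒜 a ∧
      z.1 ∈ Proj.basicOpen 𝒜 g ∧ Proj.basicOpen 𝒜 g ≤ V z := by
    intro z
    obtain ⟨_, ⟨g, rfl⟩, hzg, hgV⟩ := (ProjectiveSpectrum.isTopologicalBasis_basic_opens 𝒜).exists_subset_of_mem_open
      (hzV z) (V z).2
    obtain ⟨i, hi⟩ := Groth.L16.ProjSpace.exists_mem_basicOpen_X n R z.1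
    obtain ⟨a, ha⟩ : ∃ a, MvPolynomial.homogeneousComponent a g ∉ z.1.asHomogeneousIdeal.toIdeal := by
      by_contra hc
      push Not at hc
      refine hzg ?_
      show g ∈ z.1.asHomogeneousIdeal.toIdeal
      rw [← MvPolynomial.sum_homogeneousComponent g]
      exact Ideal.sum_mem _ fun a _ => hc a
    refine ⟨MvPolynomial.homogeneousComponent a g * MvPolynomial.X i, a + 1, Nat.succ_pos _,
      (MvPolynomial.homogeneousComponent_isHomogeneous a g).mul (MvPolynomial.isHomogeneous_X R i), ?_, ?_⟩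
    · rw [Proj.basicOpen_mul]
      exact ⟨ha, hi⟩
    · rw [Proj.basicOpen_mul]
      refine inf_le_left.trans fun x hx => hgV ?_
      intro hgx
      refine hx ?_
      rw [show MvPolynomial.homogeneousComponent a g = _ from rfl]
      exact (MvPolynomial.decomposition.decompose'_apply g a ▸ x.asHomogeneousIdeal.is_homogeneous' a hgx :)
  choose g a ha hga hzg hgV using hg
  let d : ℕ := ∏ z : Z, a z
  have hd : 0 < d := Finset.prod_pos fun z _ => ha z
  have hdvd : ∀ z : Z, ∃ c, 0 < c ∧ a z * c = d := fun z => by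
    obtain ⟨c, hc⟩ : a z ∣ d := Finset.dvd_prod_of_mem a (Finset.mem_univ z)
    exact ⟨c, Nat.pos_of_mul_pos_left (hc ▸ hd), hc.symm⟩
  choose c hc0 hc using hdvd
  have hpow : ∀ (z : Z) (x : CohB1.ProjSpace n R),
      x ∈ Proj.basicOpen 𝒜 (g z ^ c z) ↔ x ∈ Proj.basicOpen 𝒜 (g z) := fun z x => by
    rw [Proj.basicOpen_pow _ _ _ (hc0 z)]
  have hle : Proj.basicOpen 𝒜 (∑ z, g z ^ c z) ≤ U := by
    intro x hx
    by_contra hxU
    refine hx (Ideal.sum_mem _ fun z _ => ?_)
    by_contra hz
    exact hxU (hVU z (hgV z ((hpow z x).1 hz)))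
  have hZ : ∀ z : Z, z.1 ∈ Proj.basicOpen 𝒜 (∑ w, g w ^ c w) := by
    intro z hz
    have hrest : ∑ w ∈ Finset.univ.erase z, g w ^ c w ∈ z.1.asHomogeneousIdeal.toIdeal := by
      refine Ideal.sum_mem _ fun w hw => ?_
      by_contra hne
      exact (Finset.mem_erase.1 hw).1 (hsep z w (hgV w ((hpow w z.1).1 hne)))
    have hsum := Finset.add_sum_erase Finset.univ (fun w => g w ^ c w) (Finset.mem_univ z)
    have : g z ^ c z ∈ z.1.asHomogeneousIdeal.toIdeal := by
      have h := Ideal.sub_mem _ hz hrest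
      rwa [← hsum, add_sub_cancel_right] at h
    exact (hpow z z.1).2 (hzg z) this
  refine ⟨∑ z, g z ^ c z, d, hd, MvPolynomial.IsHomogeneous.sum _ _ _ fun z _ => ?_, fun e he => ?_, hle⟩
  · have := ((hga z) : (g z).IsHomogeneous (a z)).pow (c z)
    rwa [hc z] at this
  · obtain ⟨z, hez⟩ := hEZ e he
    exact hez.mem_open (Proj.basicOpen 𝒜 _).2 (hZ z)

end Avoid

/-- The zero set in projective space over a field of forms with integer coefficients. -/
def zs (k : Type u) [Field k] {r : ℕ} (h : Fin r → MvPolynomial (Fin (n + 1)) (ULift.{u} ℤ)) :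
    Set (CohB1.ProjSpace n k) :=
  {z | ∀ j, ProjSpace.map n (zTo k) z ∉ Proj.basicOpen (CohB1.polyGrading n (ULift.{u} ℤ)) (h j)}

theorem exists_forms (k : Type u) [Field k] :
    ∀ (r : ℕ) (Z : Set (CohB1.ProjSpace n k)), IsClosed Z →
      (∀ x ∈ Z, topologicalKrullDim (closure ({x} : Set (CohB1.ProjSpace n k))) ≤ (r : WithBot ℕ∞)) →
      ∃ (h : Fin r → MvPolynomial (Fin (n + 1)) (ULift.{u} ℤ)) (e : Fin r → ℕ),
        (∀ j, 0 < e j ∧ (h j).IsHomogeneous (e j) ∧ MvPolynomial.map (zTo k) (h j) ≠ 0) ∧ (Z ∩ zs k h).Finite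
  | 0, Z, hZ, hdim => by
    haveI := Groth.L22.PDual.proper n k
    haveI := Groth.L21.RR.isNoetherian_of_proper (X := CohB1.ProjSpace n k) k
    haveI : NoetherianSpace Z := (Topology.IsInducing.subtypeVal (t := Z)).noetherianSpace
    refine ⟨Fin.elim0, Fin.elim0, fun j => j.elim0, Set.Finite.subset ?_ Set.inter_subset_left⟩
    have hcl : ∀ x ∈ Z, closure ({x} : Set (CohB1.ProjSpace n k)) = {x} := fun x hx => by
      refine Set.Subset.antisymm (fun y hy => ?_) subset_closure
      by_contra hne
      have hne' : closure ({y} : Set (CohB1.ProjSpace n k)) ≠ closure ({x} : Set _) :=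
        fun he => hne (inseparable_iff_closure_eq.2 he).eq
      have h1 := (Groth.L03.Euler.topologicalKrullDim_add_one_le isClosed_closure isIrreducible_singleton.closure
        (closure_minimal (Set.singleton_subset_iff.2 hy) isClosed_closure) hne').trans (hdim x hx)
      have h2 := Groth.L03.Euler.zero_le_topologicalKrullDim ((Set.singleton_nonempty y).mono subset_closure)
      have h3 := (add_le_add_left h2 1).trans h1
      rw [zero_add, Nat.cast_zero] at h3
      exact absurd h3 (by decide)
    refine ((NoetherianSpace.finite_irreducibleComponents (α := Z)).image fun C => Subtype.val '' C).sUnion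
      ?_ |>.subset fun x hx => ?_
    · rintro _ ⟨C, hC, rfl⟩
      obtain ⟨y, hy⟩ := hC.1.nonempty
      haveI : QuasiSober Z := hZ.isClosedEmbedding_subtypeVal.quasiSober
      obtain ⟨η, hη⟩ := QuasiSober.sober hC.1 (isClosed_of_mem_irreducibleComponents C hC)
      refine (Set.finite_singleton (η : CohB1.ProjSpace n k)).subset ?_
      rintro _ ⟨w, hw, rfl⟩
      have := (subtype_specializes_iff _ _).1 (hη.specializes hw)
      rw [specializes_iff_mem_closure, hcl _ η.2] at this
      exact this
    · exact ⟨_, ⟨irreducibleComponent (⟨x, hx⟩ : Z), irreducibleComponent_mem_irreducibleComponents _, rfl⟩,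
        ⟨x, hx⟩, mem_irreducibleComponent, rfl⟩
  | r + 1, Z, hZ, hdim => by
    classical
    haveI := Groth.L22.PDual.proper n k
    haveI := Groth.L21.RR.isNoetherian_of_proper (X := CohB1.ProjSpace n k) k
    haveI : QuasiSober Z := hZ.isClosedEmbedding_subtypeVal.quasiSober
    haveI : NoetherianSpace Z := (Topology.IsInducing.subtypeVal (t := Z)).noetherianSpace
    obtain ⟨q⟩ : Nonempty (Spec (CommRingCat.of (MvPolynomial (ProjSpace.ChartVar n 0) k))) :=
      inferInstanceAs (Nonempty (PrimeSpectrum _))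
    let p : CohB1.ProjSpace n k := (ProjSpace.chart n k 0).base q
    let E : Set (CohB1.ProjSpace n k) :=
      insert p (Subtype.val '' {y : Z | closure {y} ∈ irreducibleComponents Z})
    have hfin : {y : Z | closure {y} ∈ irreducibleComponents Z}.Finite := by
      refine Set.Finite.of_finite_image (f := fun y : Z => closure ({y} : Set Z)) ((NoetherianSpace.finite_irreducibleComponents (α := Z)).subset ?_)
        fun y _ y' _ h => ?_
      · rintro _ ⟨y, hy, rfl⟩
        exact hy
      · exact (inseparable_iff_closure_eq.2 h).eq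
    obtain ⟨h, e, he, hh, hEh, -⟩ := exists_homogeneous_avoiding (⊤ : (CohB1.ProjSpace n (ULift.{u} ℤ)).Opens)
      (((hfin.image _).insert p).image (ProjSpace.map n (zTo k)) : (ProjSpace.map n (zTo k) '' E).Finite)
      (fun _ _ => trivial)
    let D : (CohB1.ProjSpace n k).Opens :=
      ProjSpace.map n (zTo k) ⁻¹ᵁ Proj.basicOpen (CohB1.polyGrading n (ULift.{u} ℤ)) h
    have hh0 : MvPolynomial.map (zTo k) h ≠ 0 := fun h0 => by
      have hp : p ∈ D := hEh _ ⟨p, Set.mem_insert _ _, rfl⟩
      have e := Proj.map_preimage_basicOpen (ProjSpace.mapGraded n (zTo k))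
        (ProjSpace.mapGraded_irrelevant n (zTo k)) h
      rw [ProjSpace.mapGraded_apply, h0, Proj.basicOpen_zero] at e
      exact e.le hp
    obtain ⟨hs, es, hes, hfinite⟩ := exists_forms k r (Z \ (D : Set (CohB1.ProjSpace n k))) (hZ.sdiff D.2) fun x hx => by
      obtain ⟨C, hC, hxC⟩ := exists_mem_irreducibleComponents_subset_of_isIrreducible _
        (isIrreducible_singleton (x := (⟨x, hx.1⟩ : Z)))
      obtain ⟨η, hη⟩ := QuasiSober.sober hC.1 (isClosed_of_mem_irreducibleComponents C hC)
      have hspec : (η : CohB1.ProjSpace n k) ⤳ x := by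
        exact (subtype_specializes_iff _ _).1 (hη.specializes (hxC rfl))
      have hηD : (η : CohB1.ProjSpace n k) ∈ D :=
        hEh _ ⟨_, Set.mem_insert_of_mem _ ⟨η, (Eq.mpr (congrArg (· ∈ irreducibleComponents ↥Z) hη.def) hC : closure {η} ∈ irreducibleComponents ↥Z), rfl⟩, rfl⟩
      have hsub : closure ({x} : Set (CohB1.ProjSpace n k)) ⊆ closure ({(η : CohB1.ProjSpace n k)} : Set _) :=
        closure_minimal (Set.singleton_subset_iff.2 (specializes_iff_mem_closure.1 hspec)) isClosed_closure
      have hne : closure ({x} : Set (CohB1.ProjSpace n k)) ≠ closure ({(η : CohB1.ProjSpace n k)} : Set _) :=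
        fun he => hx.2 ((inseparable_iff_closure_eq.2 he).eq ▸ hηD)
      have h1 := (Groth.L03.Euler.topologicalKrullDim_add_one_le isClosed_closure
        isIrreducible_singleton.closure hsub hne).trans (hdim η η.2)
      obtain ⟨m, hm⟩ := WithBot.ne_bot_iff_exists.1 (ne_bot_of_le_ne_bot (by simp)
        (Groth.L03.Euler.zero_le_topologicalKrullDim ((Set.singleton_nonempty x).mono subset_closure)))
      rw [← hm] at h1 ⊢
      have h3 : m + 1 ≤ ((r + 1 : ℕ) : ℕ∞) := WithBot.coe_le_coe.1 h1
      rw [Nat.cast_add, Nat.cast_one, ENat.add_le_add_iff_right ENat.one_ne_top] at h3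
      exact WithBot.coe_le_coe.2 h3
    refine ⟨Fin.cons h hs, Fin.cons e es, ?_, hfinite.subset fun x hx => ⟨⟨hx.1, ?_⟩, fun j => ?_⟩⟩
    · refine Fin.cases ?_ ?_
      · exact ⟨he, hh, hh0⟩
      · intro j; simpa using hes j
    · exact fun hxD => hx.2 0 hxD
    · simpa using hx.2 j.succ

/-- A closed subset of dimension at least `r` meets the zero set of `r` forms which do not vanish identically. -/
theorem nonempty_inter_zs (k : Type u) [Field k] {r : ℕ} (W : Set (CohB1.ProjSpace n k)) (hW : IsClosed W)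
    (hdim : (r : WithBot ℕ∞) ≤ topologicalKrullDim W) (h : Fin r → MvPolynomial (Fin (n + 1)) (ULift.{u} ℤ))
    (e : Fin r → ℕ) (he : ∀ j, 0 < e j ∧ (h j).IsHomogeneous (e j))
    (h0 : ∀ j, MvPolynomial.map (zTo k) (h j) ≠ 0) : (W ∩ zs k h).Nonempty := by
  haveI : QuasiSober W := hW.isClosedEmbedding_subtypeVal.quasiSober
  obtain ⟨x, hx⟩ := Groth.L22.FibreDim.exists_le_dim_closure hdim
  obtain ⟨z, hz, hzf⟩ := (Groth.Agent.S10823.result k n r (closure {(x : CohB1.ProjSpace n k)}) isClosed_closure
    isIrreducible_singleton.closure (fun j => MvPolynomial.map (zTo k) (h j)) e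
    (fun j => (he j).2.map _) (fun j => (he j).1) h0).2 (hx.trans ((Groth.L22.FibreDim.subtype_dim_closure W x).trans_le
      (Groth.L22.SchemeDim.topologicalKrullDim_mono Set.inter_subset_left)))
  refine ⟨z, closure_minimal (Set.singleton_subset_iff.2 x.2) hW hz, fun j hj => ?_⟩
  have e' := Proj.map_preimage_basicOpen (ProjSpace.mapGraded n (zTo k))
    (ProjSpace.mapGraded_irrelevant n (zTo k)) (h j)
  rw [ProjSpace.mapGraded_apply] at e'
  exact e'.le hj ((ProjectiveSpectrum.mem_zeroLocus _ _ _).1 hzf ⟨j, rfl⟩)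

end Groth.L11.QFac
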