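import Groth.Agent.L11.QFacDesc.Equation
import Groth.Agent.L10.HullFinite
import Mathlib.RingTheory.DiscreteValuationRing.TFAE

/-!
# A prime divisor which is locally set-theoretically principal is ℚ-Cartier
-/

set_option autoImplicit false
set_option backward.isDefEq.respectTransparency false
set_option backward.isDefEq.respectTransparency.types false
set_option linter.style.haveILetI false

universe u

open CategoryTheory CategoryTheory.Limits AlgebraicGeometry TopologicalSpace

noncomputable section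

namespace Groth.L11.QFac

theorem isDVR_stalk {Y : Scheme.{u}} [IsLocallyNoetherian Y] (hYn : Pi1.IsNormalScheme Y) {η : Y}
    (h1 : ringKrullDim (Y.presheaf.stalk η) = 1) :
    ∃ _ : IsDomain (Y.presheaf.stalk η), IsDiscreteValuationRing (Y.presheaf.stalk η) := by
  haveI := (hYn η).1
  refine ⟨inferInstance, ?_⟩
  have hne : ¬ IsField (Y.presheaf.stalk η) := fun h => by
    rw [ringKrullDim_eq_zero_of_isField h] at h1
    exact zero_ne_one h1
  haveI : Ring.KrullDimLE 1 (Y.presheaf.stalk η) := Ring.krullDimLE_iff.2 h1.le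
  suffices h4 : IsIntegrallyClosed (Y.presheaf.stalk η) ∧ ∃! P : Ideal (Y.presheaf.stalk η), P ≠ ⊥ ∧ P.IsPrime from
    ((IsDiscreteValuationRing.TFAE _ hne).out 0 3).2 h4
  refine ⟨(hYn η).2, IsLocalRing.maximalIdeal _,
    ⟨fun h => hne (IsLocalRing.isField_iff_maximalIdeal_eq.2 h), inferInstance⟩, fun P hP' => ?_⟩
  obtain ⟨hP, hPp⟩ := hP'
  rcases Ring.krullDimLE_one_iff.1 (inferInstance : Ring.KrullDimLE 1 (Y.presheaf.stalk η)) P hPp with h | h
  · rw [IsDomain.minimalPrimes_eq_singleton_bot] at h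
    exact absurd (Set.mem_singleton_iff.1 h) hP
  · exact IsLocalRing.eq_maximalIdeal h

/-- In a normal Noetherian domain a power of an equation of a prime generates a symbolic power. -/
theorem comap_eq_span {R A : Type u} [CommRing R] [IsDomain R] [IsNoetherianRing R] [IsIntegrallyClosed R] [CommRing A]
    [IsLocalRing A] (φ : R →+* A) (p : Ideal R) [p.IsPrime] [Algebra R A]
    (hφ : φ = algebraMap R A) [IsLocalization.AtPrime A p] (b : R) (hb : ∀ P : Ideal R, P.IsPrime → (b ∈ P ↔ p ≤ P))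
    (hp : p.height = 1) : (Ideal.span {φ b}).comap φ = Ideal.span {b} := by
  subst hφ
  refine le_antisymm (fun x hx => ?_) (Ideal.map_le_iff_le_comap.1 (by rw [Ideal.map_span, Set.image_singleton]))
  obtain ⟨c, hc⟩ := Ideal.mem_span_singleton'.1 (Ideal.mem_comap.1 hx)
  by_cases hb0 : b = 0
  · subst hb0
    rw [map_zero, mul_zero, eq_comm] at hc
    obtain ⟨⟨s, hs⟩, hsx⟩ := (IsLocalization.map_eq_zero_iff p.primeCompl A x).1 hc
    rcases mul_eq_zero.1 hsx with h | h
    · exact absurd ((show s = 0 from h).symm ▸ p.zero_mem : s ∈ p) hs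
    · rw [h]; exact Ideal.zero_mem _
  obtain ⟨r, hr⟩ := Groth.L10.Hull.mem_range_of_height_one (K := FractionRing R)
    (algebraMap R (FractionRing R) x / algebraMap R (FractionRing R) b) fun P hP hP1 => by
    have hbK : algebraMap R (FractionRing R) b ≠ 0 := by simpa using hb0
    by_cases hbP : b ∈ P
    · have hPp : P = p := by
        refine (le_antisymm ((hb P hP).1 hbP) ?_).symm
        by_contra hlt
        have hlt' : p < P := lt_of_le_not_ge ((hb P hP).1 hbP) hlt
        haveI := hP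
        haveI : p.FiniteHeight := ⟨Or.inr (by rw [hp]; exact ENat.one_ne_top)⟩
        have := Ideal.height_strict_mono_of_isPrime_of_isPrime hlt'
        rw [hp, hP1] at this
        exact lt_irrefl _ this
      subst hPp
      obtain ⟨⟨c₀, ⟨s, hs⟩⟩, hcs⟩ := IsLocalization.surj P.primeCompl c
      have : algebraMap R A (s * x) = algebraMap R A (c₀ * b) := by
        rw [map_mul, map_mul, ← hc, ← hcs]; ring
      obtain ⟨⟨w, hw⟩, hwe⟩ := IsLocalization.exists_of_eq (M := P.primeCompl) this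
      refine ⟨w * s, P.primeCompl.mul_mem hw hs, w * c₀, ?_⟩
      rw [← mul_div_assoc, eq_div_iff hbK, ← map_mul, ← map_mul]
      exact congrArg _ (by linear_combination -hwe)
    · exact ⟨b, hbP, x, by rw [mul_div_cancel₀ _ hbK]⟩
  refine Ideal.mem_span_singleton'.2 ⟨r, IsFractionRing.injective R (FractionRing R) ?_⟩
  rw [map_mul, hr, div_mul_cancel₀ _ (by simpa using hb0)]

theorem exists_effCartier {Y : Scheme.{u}} [IsNoetherian Y] [AlgebraicGeometry.IsIntegral Y]
    (hYn : Pi1.IsNormalScheme Y) {η : Y} (h1 : ringKrullDim (Y.presheaf.stalk η) = 1)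
    (heq : ∀ y, η ⤳ y → ∃ (W : Y.affineOpens) (a : Γ(Y, W.1)), y ∈ W.1 ∧ ∀ z ∈ W.1, z ∈ Y.basicOpen a ↔ ¬ η ⤳ z) :
    ∃ J : Y.IdealSheafData, FGA.IsEffCartier J ∧ (J.support : Set Y) = closure {η} := by
  classical
  choose W a hyW ha using fun y : closure ({η} : Set Y) => heq y.1 (specializes_iff_mem_closure.2 y.2)
  obtain ⟨F, hF⟩ := (isClosed_closure.isCompact : IsCompact (closure ({η} : Set Y))).elim_finite_subcover
    (fun y => ((W y).1 : Set Y)) (fun y => (W y).1.2) (fun z hz => Set.mem_iUnion.2 ⟨⟨z, hz⟩, hyW _⟩)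
  obtain ⟨hdom, hdvr⟩ := isDVR_stalk hYn h1
  obtain ⟨ϖ, hϖ⟩ := IsDiscreteValuationRing.exists_irreducible (Y.presheaf.stalk η)
  have hϖm : ϖ ∈ IsLocalRing.maximalIdeal (Y.presheaf.stalk η) := hϖ.not_isUnit
  have hηW : ∀ y, η ∈ (W y).1 := fun y => (specializes_iff_mem_closure.2 y.2).mem_open (W y).1.2 (hyW y)
  have hgen : ∀ y, a y ≠ 0 := fun y h0 => by
    have hgW : genericPoint Y ∈ (W y).1 :=
      ((genericPoint_spec Y).specializes (Set.mem_univ η)).mem_open (W y).1.2 (hηW y)
    have := (ha y _ hgW).2 fun hs => by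
      have e := (hs.antisymm ((genericPoint_spec Y).specializes (Set.mem_univ η))).eq
      rw [e] at h1
      exact zero_ne_one ((ringKrullDim_eq_zero_of_isField
        (Field.toIsField Y.functionField : IsField (Y.presheaf.stalk (genericPoint Y)))).symm.trans h1)
    rw [h0, Scheme.basicOpen_zero] at this
    exact this
  let gm : ∀ y, Γ(Y, (W y).1) →+* Y.presheaf.stalk η := fun y => (Y.presheaf.germ (W y).1 η (hηW y)).hom
  choose n v hv using fun y => IsDiscreteValuationRing.eq_unit_mul_pow_irreducible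
    (x := gm y (a y)) (fun h => hgen y (germ_injective_of_isIntegral Y η (hηW y) (h.trans (map_zero (gm y)).symm))) hϖ
  have hn : ∀ y, 0 < n y := fun y => Nat.pos_of_ne_zero fun h0 => by
    have hu : IsUnit (gm y (a y)) := by rw [hv y, h0, pow_zero, mul_one]; exact (v y).isUnit
    exact (ha y η (hηW y)).1 ((Y.mem_basicOpen _ η (hηW y)).2 hu) specializes_rfl
  let N := ∏ y ∈ F, n y
  have hN : 0 < N := Finset.prod_pos fun y _ => hn y
  let A := Y.presheaf.stalk η
  let mkN : A →+* A ⧸ Ideal.span {ϖ ^ N} := Ideal.Quotient.mk _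
  let g : Spec (CommRingCat.of (A ⧸ Ideal.span {ϖ ^ N})) ⟶ Y := Spec.map (CommRingCat.ofHom mkN) ≫ Y.fromSpecStalk η
  haveI : QuasiCompact g := by
    exact quasiCompact_of_compactSpace g
  have hrange : ∀ w, g w = η := fun w => by
    have hw : Spec.map (CommRingCat.ofHom mkN) w = IsLocalRing.closedPoint A := by
      refine PrimeSpectrum.ext (IsLocalRing.eq_maximalIdeal ?_)
      haveI : (w.asIdeal.comap mkN).IsPrime := inferInstance
      have hmem : ϖ ∈ w.asIdeal.comap mkN := by
        refine (inferInstance : (w.asIdeal.comap mkN).IsPrime).mem_of_pow_mem N (Ideal.mem_comap.2 ?_)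
        rw [show mkN (ϖ ^ N) = 0 from Ideal.Quotient.eq_zero_iff_mem.2 (Ideal.mem_span_singleton_self _)]
        exact Ideal.zero_mem _
      exact (inferInstance : (w.asIdeal.comap mkN).IsPrime).isMaximal fun hb =>
        hϖ.ne_zero (Ideal.mem_bot.1 (hb.le hmem))
    exact (Scheme.Hom.comp_apply _ _ w).trans ((congrArg _ hw).trans Scheme.fromSpecStalk_closedPoint)
  haveI : Nontrivial (A ⧸ Ideal.span {ϖ ^ N}) := Ideal.Quotient.nontrivial_iff.2 fun h => by
    exact hϖ.not_isUnit ((isUnit_pow_iff hN.ne').1 (Ideal.span_singleton_eq_top.1 h))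
  have hsupp : (g.ker.support : Set Y) = closure {η} := by
    rw [Scheme.Hom.support_ker]
    refine congrArg closure (Set.Subset.antisymm (by rintro _ ⟨w, rfl⟩; exact hrange w) ?_)
    obtain ⟨w⟩ : Nonempty (Spec (CommRingCat.of (A ⧸ Ideal.span {ϖ ^ N}))) := inferInstanceAs (Nonempty (PrimeSpectrum _))
    exact Set.singleton_subset_iff.2 ⟨w, hrange w⟩
  refine ⟨g.ker, fun z => ?_, hsupp⟩
  by_cases hz : η ⤳ z
  · obtain ⟨y, hyF, hzy⟩ := Set.mem_iUnion₂.1 (hF hz.mem_closure)
    haveI : Nonempty (W y).1 := ⟨⟨η, hηW y⟩⟩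
    refine ⟨W y, hzy, a y ^ (N / n y), mem_nonZeroDivisors_of_ne_zero (pow_ne_zero _ (hgen y)), ?_⟩
    rw [Scheme.Hom.ker_apply]
    have hpre : (⊤ : (Spec (CommRingCat.of (A ⧸ Ideal.span {ϖ ^ N}))).Opens) ≤ g ⁻¹ᵁ (W y).1 := fun w _ => by
      show g w ∈ (W y).1
      rw [hrange]; exact hηW y
    haveI : IsIso ((Spec (CommRingCat.of (A ⧸ Ideal.span {ϖ ^ N}))).presheaf.map (homOfLE hpre).op) := by
      have e : g ⁻¹ᵁ (W y).1 = ⊤ := top_le_iff.1 hpre
      rw [show homOfLE hpre = eqToHom e.symm from Subsingleton.elim _ _]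
      infer_instance
    have happ : g.appLE (W y).1 ⊤ hpre = CommRingCat.ofHom (mkN.comp (gm y)) ≫
        (Scheme.ΓSpecIso (CommRingCat.of (A ⧸ Ideal.span {ϖ ^ N}))).inv := by
      have h2 : CommRingCat.ofHom (mkN.comp (gm y)) = Y.presheaf.germ (W y).1 η (hηW y) ≫ CommRingCat.ofHom mkN := rfl
      have h3 : (⊤ : (Spec A).Opens) ≤ Y.fromSpecStalk η ⁻¹ᵁ (W y).1 := fun w _ => by
        show Y.fromSpecStalk η w ∈ (W y).1
        exact ((Y.range_fromSpecStalk (x := η)).le ⟨w, rfl⟩ : _ ⤳ η).mem_open (W y).1.2 (hηW y)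
      rw [h2, Category.assoc, Scheme.ΓSpecIso_inv_naturality,
        ← Scheme.Hom.appLE_comp_appLE (Spec.map (CommRingCat.ofHom mkN)) (Y.fromSpecStalk η) (W y).1 ⊤ ⊤ h3 le_rfl]
      have h4 : (Y.fromSpecStalk η).appLE (W y).1 ⊤ h3 = Y.presheaf.germ (W y).1 η (hηW y) ≫ (Scheme.ΓSpecIso A).inv := by
        rw [Scheme.Hom.appLE, Scheme.fromSpecStalk_app (hηW y), Category.assoc, Category.assoc, ← Functor.map_comp]
        rw [show (homOfLE le_top).op ≫ (homOfLE h3).op = 𝟙 _ from Subsingleton.elim _ _, CategoryTheory.Functor.map_id]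
        exact congrArg _ (Category.comp_id _)
      rw [h4, Category.assoc]
      congr 2
    have hker : RingHom.ker (g.app (W y).1).hom = (Ideal.span {ϖ ^ N}).comap (gm y) := by
      refine Ideal.ext fun x => ?_
      rw [RingHom.mem_ker, Ideal.mem_comap, ← Ideal.Quotient.eq_zero_iff_mem]
      have h := congr(($happ).hom x)
      rw [Scheme.Hom.appLE] at h
      constructor
      · intro hx
        have h0 : (Scheme.ΓSpecIso (CommRingCat.of (A ⧸ Ideal.span {ϖ ^ N}))).inv.hom (mkN (gm y x)) = 0 := 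
          h.symm.trans (by simp [hx])
        exact (ConcreteCategory.bijective_of_isIso (Scheme.ΓSpecIso _).inv).1 (h0.trans (map_zero _).symm)
      · intro hx
        refine (ConcreteCategory.bijective_of_isIso ((Spec _).presheaf.map (homOfLE hpre).op)).1 ?_
        refine (h.trans ?_).trans (map_zero _).symm
        show (Scheme.ΓSpecIso (CommRingCat.of (A ⧸ Ideal.span {ϖ ^ N}))).inv.hom (mkN (gm y x)) = 0
        rw [show mkN (gm y x) = 0 from hx, map_zero]
    rw [hker]
    haveI : Nonempty (W y).1 := ⟨⟨η, hηW y⟩⟩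
    haveI : IsIntegrallyClosed Γ(Y, (W y).1) := Groth.L18.isIntegrallyClosed_of_isNormalScheme hYn (W y).2
    haveI : IsNoetherianRing Γ(Y, (W y).1) := IsLocallyNoetherian.component_noetherian (W y)
    let p := (W y).2.primeIdealOf ⟨η, hηW y⟩
    letI : Algebra Γ(Y, (W y).1) A := Y.presheaf.algebra_section_stalk (⟨η, hηW y⟩ : (W y).1)
    haveI : IsLocalization.AtPrime A p.asIdeal := (W y).2.isLocalization_stalk ⟨η, hηW y⟩
    have hp1 : p.asIdeal.height = 1 := by
      have h := IsLocalization.AtPrime.ringKrullDim_eq_height p.asIdeal A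
      rw [h1] at h
      exact_mod_cast h.symm
    have hspan : Ideal.span {ϖ ^ N} = Ideal.span {gm y (a y ^ (N / n y))} := by
      rw [map_pow, hv y, mul_pow, ← pow_mul, Nat.mul_div_cancel' (Finset.dvd_prod_of_mem n hyF),
        Ideal.span_singleton_mul_left_unit ((v y).isUnit.pow _)]
    rw [hspan]
    refine comap_eq_span (gm y) p.asIdeal rfl _ (fun P hP => ?_) hp1
    rw [hP.pow_mem_iff_mem _ (Nat.div_pos (Nat.le_of_dvd hN (Finset.dvd_prod_of_mem n hyF)) (hn y))]
    have hzW : (W y).2.fromSpec ⟨P, hP⟩ ∈ (W y).1 := (W y).2.range_fromSpec.le ⟨_, rfl⟩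
    have hb := (Set.ext_iff.1 (congrArg SetLike.coe ((W y).2.fromSpec_preimage_basicOpen (a y))) ⟨P, hP⟩)
    have h1' := ha y _ hzW
    have hpη : (W y).2.fromSpec p = η := (W y).2.fromSpec_primeIdealOf _
    rw [← hpη, (W y).2.fromSpec.isOpenEmbedding.isEmbedding.isInducing.specializes_iff,
      ← PrimeSpectrum.le_iff_specializes] at h1'
    constructor
    · intro hmem
      by_contra hle
      exact (PrimeSpectrum.mem_basicOpen _ _).1 (hb.1 (h1'.2 hle)) hmem
    · intro hle
      by_contra hmem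
      exact h1'.1 (hb.2 ((PrimeSpectrum.mem_basicOpen _ _).2 hmem)) hle
  · obtain ⟨_, ⟨U, hU, rfl⟩, hzU, hUc⟩ := Y.isBasis_affineOpens.exists_subset_of_mem_open
      (show z ∈ (closure ({η} : Set Y))ᶜ from fun h => hz (specializes_iff_mem_closure.2 h)) isClosed_closure.isOpen_compl
    refine ⟨⟨U, hU⟩, hzU, 1, one_mem _, ?_⟩
    rw [Ideal.span_singleton_one, Scheme.Hom.ker_apply]
    have e : g ⁻¹ᵁ U = ⊥ := by
      refine le_bot_iff.1 fun w hw => hUc hw ?_
      rw [hrange]
      exact subset_closure rfl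
    haveI : Subsingleton Γ(Spec (CommRingCat.of (A ⧸ Ideal.span {ϖ ^ N})), g ⁻¹ᵁ U) := CommRingCat.subsingleton_of_isTerminal (X := Γ(Spec _, g ⁻¹ᵁ U))
      (e ▸ (Spec (CommRingCat.of (A ⧸ Ideal.span {ϖ ^ N}))).sheaf.isTerminalOfEmpty)
    exact RingHom.ker_eq_top_of_subsingleton _

theorem isProper_of_isLocallyProjective {X Y : Scheme.{u}} (π : X ⟶ Y) (hπ : RelProj.IsLocallyProjective π) :
    IsProper π := by
  choose U hyU n i hi hi' using (Groth.Agent.S9704.result π).1 hπ
  refine IsZariskiLocalAtTarget.of_iSup_eq_top (P := @IsProper) U (top_le_iff.1 fun y _ => Opens.mem_iSup.2 ⟨y, hyU y⟩)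
    fun y => ?_
  haveI := hi y
  rw [← hi' y]
  infer_instance

end Groth.L11.QFac
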