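import Groth.Agent.L11.QFacDesc.Forms

/-!
# Multisections of equidimensional projective morphisms
-/

set_option autoImplicit false
set_option backward.isDefEq.respectTransparency false
set_option backward.isDefEq.respectTransparency.types false
set_option linter.style.haveILetI false

universe u

open CategoryTheory CategoryTheory.Limits AlgebraicGeometry TopologicalSpace

noncomputable section

namespace Groth.L11.QFac

open Groth.L16
open Groth.L02.Quot (zTo)

theorem zHom_ext {K : Type u} [CommRing K] (φ ψ : ULift.{u} ℤ →+* K) : φ = ψ := by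
  refine RingHom.ext fun a => ?_
  obtain ⟨a⟩ := a
  exact congrArg (fun g : ℤ →+* K => g a) (RingHom.ext_int (φ.comp ULift.ringEquiv.symm.toRingHom)
    (ψ.comp ULift.ringEquiv.symm.toRingHom))

variable {n d : ℕ} {X S : Scheme.{u}} (f : X ⟶ S) (i : X ⟶ CohB1.ProjSpaceOver n S) [IsClosedImmersion i]
  (hi : i ≫ CohB1.ProjSpaceOver.toBase n S = f)

include hi in
theorem exists_fibre_embedding (hd : ∀ s : S, topologicalKrullDim ↥(f.fiber s) = d) (s : S) :
    ∃ ik : f.fiber s ⟶ CohB1.ProjSpace n (S.residueField s), IsClosedImmersion ik ∧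
      topologicalKrullDim (Set.range ik.base) = d ∧
      ik ≫ ProjSpace.map n (zTo (S.residueField s)) =
        f.fiberι s ≫ i ≫ pullback.fst (CohB1.ProjSpace.toSpec n (ULift.{u} ℤ)) (specULiftZIsTerminal.from S) := by
  obtain ⟨ik, hik, -, hikc⟩ := Groth.L02.Quot.exists_fibre_proj i (u := S.fromSpecResidueField s)
    (g := f.fiberι s) (h := f.fiberToSpecResidueField s) (by rw [hi]; exact IsPullback.of_hasPullback _ _)
  refine ⟨ik, hik, ?_, hikc⟩
  rw [← hd s]
  exact (IsHomeomorph.topologicalKrullDim_eq _ ik.isClosedEmbedding.isEmbedding.toHomeomorph.isHomeomorph).symm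

include hi in
/-- A point of the generic fibre whose closure is finite over a given point. -/
theorem exists_multisection [AlgebraicGeometry.IsIntegral S] (hd : ∀ s : S, topologicalKrullDim ↥(f.fiber s) = d)
    (y : S) : ∃ x₀ : X, f x₀ = genericPoint S ∧ (closure {x₀} ∩ f ⁻¹' {y}).Finite := by
  obtain ⟨iy, hiy, hdy, hcy⟩ := exists_fibre_embedding f i hi hd y
  obtain ⟨h, e, he, hfin⟩ := exists_forms (S.residueField y) d (Set.range iy.base) iy.isClosedEmbedding.isClosed_range
    fun x hx => (Groth.L22.SchemeDim.topologicalKrullDim_mono (closure_minimal (Set.singleton_subset_iff.2 hx)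
      iy.isClosedEmbedding.isClosed_range)).trans hdy.le
  obtain ⟨ig, hig, hdg, hcg⟩ := exists_fibre_embedding f i hi hd (genericPoint S)
  have h0 : ∀ j, MvPolynomial.map (zTo (S.residueField (genericPoint S))) (h j) ≠ 0 := fun j hj => by
    obtain ⟨σ, hσ⟩ := MvPolynomial.ne_zero_iff.1 (he j).2.2
    rw [MvPolynomial.coeff_map] at hσ
    set c := (h j).coeff σ
    let O := S.presheaf.stalk y
    let ψ : O →+* S.residueField (genericPoint S) := (S.residue (genericPoint S)).hom.comp
      (S.presheaf.stalkSpecializes ((genericPoint_spec S).specializes (Set.mem_univ y))).hom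
    have hu : IsUnit (zTo O c) := by
      refine IsLocalRing.notMem_maximalIdeal.1 fun hm => hσ ?_
      rw [show zTo (S.residueField y) c = (S.residue y).hom (zTo O c) from
        congrArg (fun φ : ULift.{u} ℤ →+* _ => φ c) (zHom_ext _ ((S.residue y).hom.comp (zTo O)))]
      exact (IsLocalRing.residue_eq_zero_iff _).2 hm
    have h2 := congrArg (MvPolynomial.coeff σ) hj
    rw [MvPolynomial.coeff_map, MvPolynomial.coeff_zero] at h2
    refine (hu.map ψ).ne_zero ?_
    rw [← h2]
    exact congrArg (fun φ : ULift.{u} ℤ →+* _ => φ c) (zHom_ext (ψ.comp (zTo O)) _)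
  obtain ⟨_, ⟨v, rfl⟩, hv⟩ := nonempty_inter_zs (S.residueField (genericPoint S)) (Set.range ig.base)
    ig.isClosedEmbedding.isClosed_range hdg.ge h e (fun j => ⟨(he j).1, (he j).2.1⟩) h0
  refine ⟨f.fiberι _ v, ((f.range_fiberι _).le ⟨v, rfl⟩), ?_⟩
  let c : X ⟶ CohB1.ProjSpace n (ULift.{u} ℤ) :=
    i ≫ pullback.fst (CohB1.ProjSpace.toSpec n (ULift.{u} ℤ)) (specULiftZIsTerminal.from S)
  refine ((hfin.preimage (iy.isClosedEmbedding.injective.injOn)).image (f.fiberι y)).subset ?_
  rintro x ⟨hx, hxy⟩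
  obtain ⟨w, rfl⟩ : x ∈ Set.range (f.fiberι y) := (f.range_fiberι y).ge hxy
  refine ⟨w, ⟨⟨w, rfl⟩, fun j hj => hv j ?_⟩, rfl⟩
  have e₁ : c (f.fiberι y w) = ProjSpace.map n (zTo _) (iy w) := by
    rw [← Scheme.Hom.comp_apply, ← Scheme.Hom.comp_apply, hcy]
  have e₂ : c (f.fiberι (genericPoint S) v) = ProjSpace.map n (zTo _) (ig v) := by
    rw [← Scheme.Hom.comp_apply, ← Scheme.Hom.comp_apply, hcg]
  rw [← e₂]
  refine ((specializes_iff_mem_closure.2 hx).map c.continuous).mem_open ?_ (show c (f.fiberι y w) ∈ _ from e₁ ▸ hj)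
  exact (Proj.basicOpen (CohB1.polyGrading n (ULift.{u} ℤ)) (h j)).2

end Groth.L11.QFac
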